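import Mathlib

set_option autoImplicit false
universe u v w

open TensorProduct

namespace Groth.Agent.InvSaturLib

theorem invariants_injective {R : Type u} [CommRing R] {M : Type v} [AddCommGroup M] [Module R M]
    [Module.IsTorsionFree R M] {G : Type w} [Group G] (ρ : Representation R G M) (r : R) (hr : IsRegular r) :
    Function.Injective (LinearMap.lTensor (R ⧸ Ideal.span {r}) ρ.invariants.subtype) := by
  rw [injective_iff_map_eq_zero]
  intro z hz
  obtain ⟨x, rfl⟩ : ∃ x : ρ.invariants, (Ideal.Quotient.mk (Ideal.span {r}) 1) ⊗ₜ[R] x = z := by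
    clear hz
    induction z using TensorProduct.induction_on with
    | zero => exact ⟨0, tmul_zero _ _⟩
    | tmul a x =>
      obtain ⟨a, rfl⟩ := Ideal.Quotient.mk_surjective a
      refine ⟨a • x, ?_⟩
      rw [← TensorProduct.smul_tmul]
      congr 1
      rw [Algebra.smul_def, Ideal.Quotient.algebraMap_eq, ← map_mul, mul_one]
    | add a b ha hb =>
      obtain ⟨x, rfl⟩ := ha; obtain ⟨y, rfl⟩ := hb
      exact ⟨x + y, tmul_add _ _ _⟩
  rw [LinearMap.lTensor_tmul] at hz
  have h := congrArg (TensorProduct.quotTensorEquivQuotSMul M (Ideal.span {r})) hz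
  rw [TensorProduct.quotTensorEquivQuotSMul_mk_tmul, one_smul, map_zero, Submodule.Quotient.mk_eq_zero,
    Submodule.ideal_span_singleton_smul, Submodule.mem_smul_pointwise_iff_exists] at h
  obtain ⟨y, -, hy⟩ := h
  have hyinv : y ∈ ρ.invariants := by
    intro g
    refine hr.isSMulRegular (M := M) ?_
    simp only
    rw [← map_smul, hy]
    exact x.2 g
  rw [show x = r • ⟨y, hyinv⟩ from Subtype.ext hy.symm, ← TensorProduct.smul_tmul]
  rw [Algebra.smul_def, Ideal.Quotient.algebraMap_eq, ← map_mul, mul_one,
    Ideal.Quotient.eq_zero_iff_mem.mpr (Ideal.mem_span_singleton_self r), zero_tmul]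

end Groth.Agent.InvSaturLib
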